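import Groth.Agent.Lib.CurveMult.SeparablePoint
import Groth.Agent.Lib.CurveMult.NormalRat
import Groth.Agent.Lib.RamInsep9.Basic
import Groth.Agent.Lib.FunFld.LinSeries
import Groth.Prelude.Def_FGA

/-!
# Rational points in general position on a curve over a separably closed field
-/

set_option autoImplicit false
set_option linter.style.haveILetI false
set_option backward.isDefEq.respectTransparency false

universe u

open CategoryTheory CategoryTheory.Limits AlgebraicGeometry
open GrothLib.CurveRR GrothLib.CurveMult

noncomputable section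

namespace GrothLib.RatGeneral28

variable (k : Type u) [Field k] [IsSepClosed k] {X : Scheme.{u}} [IsIntegral X] [RegCurve X]
  [X.Over (Spec (CommRingCat.of k))] [IsProper (X ↘ Spec (CommRingCat.of k))]
  [Smooth (X ↘ Spec (CommRingCat.of k))]

include k in
/-- Outside any finite set there is a place of degree one. -/
theorem exists_deg_one_notMem (F : Set (_root_.FunFld.Place k X.functionField)) (hF : F.Finite) :
    ∃ P : _root_.FunFld.Place k X.functionField, P ∉ F ∧ P.deg = 1 := by
  classical
  haveI := Euler.isNoetherian_of_proper (X := X) k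
  have hfg : FunFld.IsFG k X.functionField := isFG k
  obtain ⟨z, hzt, hz⟩ := InsepTwistGen.exists_separating (k := k) (X := X)
  obtain ⟨B, hB, hgood⟩ := SepPointFF.finite_bad_zeros hfg hzt hz
  have hzero : ∀ c : k, ∃ Q : _root_.FunFld.Place k X.functionField,
      0 < Q.ord (z - algebraMap k X.functionField c) := fun c =>
    FunFld.IsFG.exists_zero hfg (by
      have := hzt.aeval (Polynomial.X - Polynomial.C c) (by simp) (by simp)
      simpa using this)
  choose Z hZ using hzero
  have hne : ∀ c : k, z - algebraMap k X.functionField c ≠ 0 := fun c h0 => by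
    have := hZ c; rw [h0, FunFld.ord_zero] at this; exact lt_irrefl _ this
  have hinj : Function.Injective Z := by
    intro a b hab
    by_contra hne'
    have ha := hZ a
    have hb := hZ b
    rw [← hab] at hb
    have h1 := (FunFld.val_lt_one_iff _ (hne a)).mpr ha
    have h2 := (FunFld.val_lt_one_iff _ (hne b)).mpr hb
    have hd : b - a ≠ 0 := sub_ne_zero.2 (Ne.symm hne')
    have h3 : FunFld.val (Z a) (algebraMap k X.functionField (b - a)) < 1 := by
      rw [show algebraMap k X.functionField (b - a) =
          (z - algebraMap k X.functionField a) - (z - algebraMap k X.functionField b) by rw [map_sub]; ring]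
      exact lt_of_le_of_lt (Valuation.map_sub _ _ _) (max_lt h1 h2)
    have h4 := (FunFld.val_lt_one_iff (Z a) ((_root_.map_ne_zero _).2 hd)).1 h3
    rw [FunFld.ord_const] at h4
    exact lt_irrefl _ h4
  haveI : Infinite k := not_finite_iff_infinite.1 fun h => by
    haveI := h
    haveI : IsAlgClosed k := inferInstance
    exact not_finite k
  obtain ⟨_, ⟨c, rfl⟩, hc⟩ := ((Set.infinite_range_of_injective hinj).sdiff (hB.union hF)).nonempty
  rw [Set.mem_union, not_or] at hc
  refine ⟨Z c, hc.2, ?_⟩
  haveI := hgood _ hc.1 c (hZ c)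
  have hb : Function.Bijective (algebraMap k (IsLocalRing.ResidueField (Z c).O)) :=
    ⟨(algebraMap k (IsLocalRing.ResidueField (Z c).O)).injective, IsSepClosed.algebraMap_surjective k _⟩
  show Module.finrank k (IsLocalRing.ResidueField (Z c).O) = 1
  exact (LinearEquiv.ofBijective (Algebra.linearMap k (IsLocalRing.ResidueField (Z c).O)) hb).finrank_eq.symm.trans
    (Module.finrank_self k)

attribute [local instance] Curv2.resAlgebra

set_option maxHeartbeats 1600000 in
include k in
omit [IsSepClosed k] [Smooth (X ↘ Spec (CommRingCat.of k))] in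
/-- A place of degree one is a rational point. -/
theorem exists_section (P : _root_.FunFld.Place k X.functionField) (hP : P.deg = 1) :
    ∃ σ : Spec (CommRingCat.of k) ⟶ X, σ ≫ (X ↘ Spec (CommRingCat.of k)) = 𝟙 _ ∧
      Nonempty (ClSub.idealMod σ.ker ≅
        oD k (-(Finsupp.single P 1 : FunFld.Divisor k X.functionField))) := by
  haveI := Euler.isNoetherian_of_proper (X := X) k
  obtain ⟨x, rfl⟩ := place_surjective (k := k) P
  have hcl : IsClosed ({x.1} : Set X) := (isClosed_iff_ne_genericPoint k x.1).2 x.2
  obtain ⟨e⟩ := nonempty_residueField_algEquiv k x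
  have hfr : Module.finrank k (X.residueField x.1) = 1 := by
    have hdeg : (place k x).deg = Module.finrank k (IsLocalRing.ResidueField (place k x).O) := rfl
    rw [e.toLinearEquiv.finrank_eq, ← hdeg, hP]
  have hb : Function.Bijective (algebraMap k (X.residueField x.1)) := by
    refine ⟨(algebraMap k (X.residueField x.1)).injective, fun w => ?_⟩
    obtain ⟨c, hc⟩ := (finrank_eq_one_iff_of_nonzero' (1 : X.residueField x.1) one_ne_zero).1 hfr w
    exact ⟨c, by rw [Algebra.algebraMap_eq_smul_one, hc]⟩
  let φ : CommRingCat.of k ⟶ X.residueField x.1 := CommRingCat.ofHom (Curv2.resMap k X x.1)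
  haveI : IsIso φ := (ConcreteCategory.isIso_iff_bijective _).2 hb
  let σ : Spec (CommRingCat.of k) ⟶ X := Spec.map (inv φ) ≫ X.fromSpecResidueField x.1
  have hσ : σ ≫ (X ↘ Spec (CommRingCat.of k)) = 𝟙 _ :=
    (Category.assoc _ _ _).trans ((congrArg (Spec.map (inv φ) ≫ ·) (RamInsep9.fromSpecResidueField_comp (k := k) X x.1)).trans
      ((Spec.map_comp φ (inv φ)).symm.trans ((congrArg Spec.map (IsIso.hom_inv_id φ)).trans (Spec.map_id _))))
  haveI : IsClosedImmersion (σ ≫ (X ↘ Spec (CommRingCat.of k))) := by rw [hσ]; infer_instance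
  haveI : IsClosedImmersion σ := .of_comp σ (X ↘ Spec (CommRingCat.of k))
  haveI : Subsingleton ↥(Spec (CommRingCat.of k)) := inferInstanceAs (Subsingleton (PrimeSpectrum k))
  let o : ↥(Spec (CommRingCat.of k)) := IsLocalRing.closedPoint k
  have hσo : σ o = x.1 := by
    rw [Scheme.Hom.comp_apply]
    exact Scheme.fromSpecResidueField_apply _ _
  obtain ⟨e'⟩ := CurveRR.nonempty_idealMod_point_iso k x hcl
  have hk : σ.ker = Scheme.IdealSheafData.vanishingIdeal (⟨{x.1}, hcl⟩ : TopologicalSpace.Closeds X) := by
    rw [SchImage.ker_eq_vanishingIdeal]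
    congr 1
    refine TopologicalSpace.Closeds.ext ?_
    change closure (Set.range σ) = {x.1}
    rw [Set.range_eq_singleton fun a => (congrArg σ (Subsingleton.elim a o)).trans hσo, hcl.closure_eq]
  exact ⟨σ, hσ, ⟨eqToIso (congrArg ClSub.idealMod hk) ≪≫ e'⟩⟩

include k in
/-- Rational points in general position each drop the sections by one. -/
theorem exists_general_points (D : FunFld.Divisor k X.functionField) :
    ∀ t : ℕ, t ≤ _root_.FunFld.ell D → ∃ (σ : Fin t → (Spec (CommRingCat.of k) ⟶ X))
      (S : FunFld.Divisor k X.functionField), (∀ i, σ i ≫ (X ↘ Spec (CommRingCat.of k)) = 𝟙 _) ∧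
      Nonempty (FGA.tensorList (List.ofFn fun i => ClSub.idealMod (σ i).ker) ≅ oD k (-S)) ∧
      _root_.FunFld.ell (D - S) + t = _root_.FunFld.ell D := by
  classical
  have hfg : FunFld.IsFG k X.functionField := isFG k
  intro t
  induction t with
  | zero =>
    intro _
    refine ⟨Fin.elim0, 0, fun i => i.elim0, ?_, by simp⟩
    rw [List.ofFn_zero, neg_zero]
    exact nonempty_iso_oD_zero k
  | succ t ih =>
    intro ht
    obtain ⟨σ, S, hσ, ⟨e⟩, hS⟩ := ih (by omega)
    set E := D - S with hE
    have hpos : 0 < _root_.FunFld.ell E := by omega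
    haveI := FunFld.IsFG.finite_L hfg E
    obtain ⟨f, hfE, hf0⟩ := Submodule.exists_mem_ne_zero_of_ne_bot (p := _root_.FunFld.L E) (by
      intro hb; rw [_root_.FunFld.ell, hb, finrank_bot] at hpos; omega)
    obtain ⟨P, hPn, hP⟩ := exists_deg_one_notMem k
      (((E + _root_.FunFld.div k f).support : Set (_root_.FunFld.Place k X.functionField))) (Finset.finite_toSet _)
    rw [Finset.mem_coe, Finsupp.notMem_support_iff, Finsupp.add_apply, FunFld.IsFG.div_apply hfg] at hPn
    obtain ⟨τ, hτ, ⟨eτ⟩⟩ := exists_section k P hP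
    refine ⟨Fin.cons τ σ, Finsupp.single P 1 + S, Fin.cases hτ hσ, ?_, ?_⟩
    · rw [List.ofFn_succ, neg_add]
      simp only [Fin.cons_zero, Fin.cons_succ]
      exact CurveRR.nonempty_tensor_iso k eτ e
    · have hle : E - Finsupp.single P 1 ≤ E := sub_le_self _ (Finsupp.single_nonneg.2 zero_le_one)
      have h1 := FunFld.IsFG.ell_sub_ell_le hfg hle
      have hd1 : (E - Finsupp.single P 1).deg = E.deg - 1 := by
        rw [FunFld.deg_sub E, FunFld.deg_single, hP]; simp
      rw [hd1] at h1
      have hlt : _root_.FunFld.ell (E - Finsupp.single P 1) < _root_.FunFld.ell E := by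
        refine Submodule.finrank_lt_finrank_of_lt (lt_of_le_of_ne (FunFld.L_mono hle) fun heq => ?_)
        have h2 : f ∈ _root_.FunFld.L (E - Finsupp.single P 1) := heq ▸ hfE
        have h3 := (FunFld.mem_L_iff_ord hf0).1 h2 P
        rw [Finsupp.sub_apply, Finsupp.single_eq_same] at h3
        omega
      rw [show D - (Finsupp.single P 1 + S) = E - Finsupp.single P 1 by rw [hE]; abel]
      omega

end GrothLib.RatGeneral28
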